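import Groth.Agent.LeadLocCohLC.Qcoh
import Groth.Agent.H25SuppPre
import Groth.Agent.H10Coh.ModRes

/-!
# Sections with support in `V ∖ W`: modules against abelian sheaves
-/

set_option autoImplicit false
set_option linter.style.haveILetI false
set_option linter.unusedSectionVars false
set_option backward.isDefEq.respectTransparency false

noncomputable section

universe u

open CategoryTheory CategoryTheory.Limits AlgebraicGeometry Opposite TopologicalSpace

namespace Groth.Agent.LeadLocCohLC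

open Groth.Agent.H10Inj.SheafExt Groth.Agent.H25SuppPre

attribute [local instance 10000] H10Coh.hasSheafifyAb H10Coh.hasWeakSheafifyAb H10Coh.hasExtAb H10Coh.enoughInjAb
attribute [local instance] H10Coh.enoughInjMod

variable {Y : Scheme.{u}} {W V : Y.Opens} (h : W ≤ V)

theorem image_preimage_ι (A : Y.Opens) : V.ι ''ᵁ (V.ι ⁻¹ᵁ A) = V ⊓ A := by
  rw [Scheme.Hom.image_preimage_eq_opensRange_inf, Scheme.Opens.opensRange_ι]

/-- The section over `V ∩ V'` of a section with support. -/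
def ζ (N : Y.Modules) (V' : Y.Opens) :
    ((H10Coh.shF Y).obj ((T V (V.ι ⁻¹ᵁ W)).obj N)).obj.obj (op V') ⟶ sec (V := V) V' ((H10Coh.shF Y).obj N) :=
  (gι (V.ι ⁻¹ᵁ W) ((Scheme.Modules.restrictFunctor V.ι).obj N)).app (V.ι ⁻¹ᵁ V') ≫
    N.presheaf.map (homOfLE (image_preimage_ι (V := V) V').ge).op

theorem ζ_res (N : Y.Modules) {A B : Y.Opens} (g : A ⟶ B)
    (t : ((H10Coh.shF Y).obj ((T V (V.ι ⁻¹ᵁ W)).obj N)).obj.obj (op B)) :
    ζ (W := W) N A (((H10Coh.shF Y).obj ((T V (V.ι ⁻¹ᵁ W)).obj N)).obj.map g.op t) =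
      N.presheaf.map (homOfLE (inf_le_inf_left V g.le)).op (ζ (W := W) N B t) := by
  let φ := gι (V.ι ⁻¹ᵁ W) ((Scheme.Modules.restrictFunctor V.ι).obj N)
  let ψ := ((SheafOfModules.toSheaf V.toScheme.ringCatSheaf).map φ).hom
  have e1 := congr($(ψ.naturality ((Opens.map V.ι.base).map g).op) t)
  refine (congrArg _ e1).trans ?_
  show N.presheaf.map _ (N.presheaf.map _ _) = N.presheaf.map _ (N.presheaf.map _ _)
  rw [← ConcreteCategory.comp_apply, ← ConcreteCategory.comp_apply, ← N.presheaf.map_comp, ← N.presheaf.map_comp]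
  rfl

theorem ζ_comp {N N' : Y.Modules} (f : N ⟶ N') (V' : Y.Opens)
    (t : ((H10Coh.shF Y).obj ((T V (V.ι ⁻¹ᵁ W)).obj N)).obj.obj (op V')) :
    ζ (W := W) N' V' (((H10Coh.shF Y).map ((T V (V.ι ⁻¹ᵁ W)).map f)).hom.app (op V') t) =
      f.app (V ⊓ V') (ζ (W := W) N V' t) := by
  have e0 := gι_natural (V.ι ⁻¹ᵁ W) ((Scheme.Modules.restrictFunctor V.ι).map f)
  have e1 := congr($(congrArg (fun φ => Scheme.Modules.Hom.app φ (V.ι ⁻¹ᵁ V')) e0) t)
  refine (congrArg _ e1).trans ?_
  exact (congr($(((H10Coh.shF Y).map f).hom.naturality (homOfLE (image_preimage_ι (V := V) V').ge).op) _)).symm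

theorem ζ_injective (N : Y.Modules) (V' : Y.Opens) : Function.Injective (ζ (W := W) (V := V) N V') := by
  haveI : IsIso (homOfLE (image_preimage_ι (V := V) V').ge) :=
    ⟨homOfLE (image_preimage_ι (V := V) V').le, Subsingleton.elim _ _, Subsingleton.elim _ _⟩
  exact (ConcreteCategory.bijective_of_isIso
    (N.presheaf.map (homOfLE (image_preimage_ι (V := V) V').ge).op)).1.comp (injective_gι_app _ _ _)

include h in
theorem ζ_range (N : Y.Modules) (V' : Y.Opens) (s : sec (V := V) V' ((H10Coh.shF Y).obj N)) :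
    (∃ t, ζ (W := W) N V' t = s) ↔ N.presheaf.map (homOfLE (inf_le_inf_right V' h)).op s = 0 := by
  let U := V.ι ⁻¹ᵁ W
  let K := (Scheme.Modules.restrictFunctor V.ι).obj N
  let O := V.ι ⁻¹ᵁ V'
  have hO : V.ι ''ᵁ (U.ι ''ᵁ (U.ι ⁻¹ᵁ O)) = W ⊓ V' := by
    rw [image_preimage_ι, ← Scheme.Hom.preimage_inf, image_preimage_ι, ← inf_assoc, inf_eq_right.mpr h]
  have key : ∀ s' : Γ(K, O), N.presheaf.map (homOfLE (inf_le_inf_right V' h)).op
      (N.presheaf.map (homOfLE (image_preimage_ι (V := V) V').ge).op s') = 0 ↔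
        K.presheaf.map (homOfLE (U.ι.image_preimage_le O)).op s' = 0 := by
    intro s'
    have e : N.presheaf.map (homOfLE hO.le).op (N.presheaf.map (homOfLE (inf_le_inf_right V' h)).op
        (N.presheaf.map (homOfLE (image_preimage_ι (V := V) V').ge).op s')) =
          K.presheaf.map (homOfLE (U.ι.image_preimage_le O)).op s' := by
      rw [← ConcreteCategory.comp_apply, ← ConcreteCategory.comp_apply, ← N.presheaf.map_comp, ← N.presheaf.map_comp]
      rfl
    haveI : IsIso (homOfLE hO.le) := ⟨homOfLE hO.ge, Subsingleton.elim _ _, Subsingleton.elim _ _⟩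
    rw [← e, map_eq_zero_iff _ (ConcreteCategory.bijective_of_isIso (N.presheaf.map (homOfLE hO.le).op)).1]
  haveI : IsIso (homOfLE (image_preimage_ι (V := V) V').ge) :=
    ⟨homOfLE (image_preimage_ι (V := V) V').le, Subsingleton.elim _ _, Subsingleton.elim _ _⟩
  constructor
  · rintro ⟨t, rfl⟩
    exact (key _).mpr ((mem_range_gι_app U K O _).mp ⟨t, rfl⟩)
  · intro hs
    obtain ⟨s', rfl⟩ :=
      (ConcreteCategory.bijective_of_isIso (N.presheaf.map (homOfLE (image_preimage_ι (V := V) V').ge).op)).2 s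
    obtain ⟨t, ht⟩ := (mem_range_gι_app U K O s').mpr ((key s').mp hs)
    exact ⟨t, congrArg _ ht⟩

theorem exists_β_ζ (N : Y.Modules) (V' : Y.Opens)
    (t : ((H10Coh.shF Y).obj ((T V (V.ι ⁻¹ᵁ W)).obj N)).obj.obj (op V')) :
    ∃ u, β h ((H10Coh.shF Y).obj N) V' u = ζ (W := W) N V' t :=
  (β_range h _ V' _).mpr ((ζ_range h N V' _).mp ⟨t, rfl⟩)

/-- From sections with support of a module to those of the abelian sheaf. -/
def cmp (N : Y.Modules) (V' : Y.Opens) :
    ((H10Coh.shF Y).obj ((T V (V.ι ⁻¹ᵁ W)).obj N)).obj.obj (op V') ⟶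
      ((SuppFam.sectSuppLC h).obj ((H10Coh.shF Y).obj N)).obj.obj (op V') :=
  AddCommGrpCat.ofHom <| AddMonoidHom.mk' (fun t => (exists_β_ζ h N V' t).choose)
    (fun x y => β_injective h _ V' ((exists_β_ζ h N V' (x + y)).choose_spec.trans
      ((map_add _ x y).trans (((congr_arg₂ (· + ·) (exists_β_ζ h N V' x).choose_spec
        (exists_β_ζ h N V' y).choose_spec).symm.trans (map_add _ _ _).symm)))))

theorem β_cmp (N : Y.Modules) (V' : Y.Opens) (t) :
    β h ((H10Coh.shF Y).obj N) V' (cmp h N V' t) = ζ (W := W) N V' t :=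
  (exists_β_ζ h N V' t).choose_spec

instance isIso_cmp (N : Y.Modules) (V' : Y.Opens) : IsIso (cmp h N V') := by
  refine (ConcreteCategory.isIso_iff_bijective _).mpr ⟨fun x y e => ζ_injective N V' ?_, fun u => ?_⟩
  · rw [← β_cmp h, ← β_cmp h, e]
  · obtain ⟨t, ht⟩ := (ζ_range h N V' (β h _ V' u)).mpr ((β_range h _ V' _).mp ⟨u, rfl⟩)
    exact ⟨t, β_injective h _ V' ((β_cmp h N V' t).trans ht)⟩

/-- Sections with support commute with forgetting the module structure. -/
def cmpIso : T V (V.ι ⁻¹ᵁ W) ⋙ H10Coh.shF Y ≅ H10Coh.shF Y ⋙ SuppFam.sectSuppLC h :=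
  NatIso.ofComponents
    (fun N => (fullyFaithfulSheafToPresheaf _ _).preimageIso
      (NatIso.ofComponents (fun V' => asIso (cmp h N V'.unop)) (fun {A B} g => by
        ext x
        refine β_injective h _ B.unop ?_
        refine (β_cmp h N B.unop _).trans ?_
        refine (ζ_res N g.unop x).trans ?_
        refine (congrArg _ (β_cmp h N A.unop x).symm).trans ?_
        exact (β_res h ((H10Coh.shF Y).obj N) g.unop (cmp h N A.unop x)).symm)))
    (fun {N N'} f => by
      refine Sheaf.hom_ext (NatTrans.ext (funext fun V' => ?_))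
      ext x
      refine β_injective h _ V'.unop ?_
      refine (β_cmp h N' V'.unop _).trans ?_
      refine (ζ_comp f V'.unop x).trans ?_
      refine (congrArg _ (β_cmp h N V'.unop x).symm).trans ?_
      exact (β_comp h ((H10Coh.shF Y).map f) V'.unop (cmp h N V'.unop x)).symm)

section Derived

instance preservesFiniteLimits_sectSuppLC : PreservesFiniteLimits (SuppFam.sectSuppLC (X := Y.carrier) h) := by
  haveI : PreservesFiniteLimits (G (X := Y.carrier) h) :=
    ⟨fun J _ _ => preservesLimitsOfShape_of_evaluation _ J fun V' =>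
      (inferInstance : PreservesLimitsOfShape J (preadditiveCoyoneda.obj (op ((zqFun h).obj V'.unop))))⟩
  haveI : PreservesFiniteLimits (SuppFam.sectSuppLC (X := Y.carrier) h ⋙ sheafToPresheaf _ _) :=
    ⟨fun J _ _ => preservesLimitsOfShape_of_natIso (gIso h)⟩
  exact ⟨fun J _ _ => preservesLimitsOfShape_of_reflects_of_preserves _ (sheafToPresheaf _ _)⟩

theorem exists_supp_lift {S : ShortComplex (CohTop.Ab Y.carrier)} (hS : S.ShortExact) (hf : H10Coh.Flasque S.X₁)
    (U : Y.Opens) (t : ((SuppFam.sectSuppLC h).obj S.X₃).obj.obj (op U)) :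
    ∃ x, ((SuppFam.sectSuppLC h).map S.g).hom.app (op U) x = t := by
  let r := (homOfLE (inf_le_inf_right U h)).op
  have ht : S.X₃.obj.map r (β h S.X₃ U t) = 0 := (β_range h _ U _).mp ⟨t, rfl⟩
  obtain ⟨s, hs⟩ := H10Coh.surjective_sections hS hf (V ⊓ U) (β h S.X₃ U t)
  have hk : S.g.hom.app (op (W ⊓ U)) (S.X₂.obj.map r s) = 0 := by
    rw [← ConcreteCategory.comp_apply, S.g.hom.naturality r, ConcreteCategory.comp_apply, hs, ht]
  have hex := ((hS.exact.map_of_mono_of_preservesKernel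
    (sheafToPresheaf _ _) hS.mono_f inferInstance).map ((evaluation _ _).obj (op (W ⊓ U))))
  obtain ⟨z, hz⟩ := (ShortComplex.ab_exact_iff _).1 hex _ hk
  obtain ⟨z', rfl⟩ := hf (inf_le_inf_right U h) z
  have hzz : S.g.hom.app (op (V ⊓ U)) (S.f.hom.app (op (V ⊓ U)) z') = 0 :=
    congr($(NatTrans.congr_app (congrArg InducedCategory.Hom.hom S.zero) (op (V ⊓ U))) z')
  have h0 : S.X₂.obj.map r (s - S.f.hom.app (op (V ⊓ U)) z') = 0 := by
    rw [map_sub, sub_eq_zero, ← ConcreteCategory.comp_apply, ← S.f.hom.naturality r, ConcreteCategory.comp_apply]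
    exact hz.symm
  obtain ⟨x, hx⟩ := (β_range h S.X₂ U _).mpr h0
  refine ⟨x, β_injective h _ U ?_⟩
  rw [β_comp, hx, map_sub, hzz, sub_zero, hs]

theorem isAcyclic_sectSuppLC {F : CohTop.Ab Y.carrier} (hF : H10Coh.Flasque F) :
    H16Derived.AcyclicLES.IsAcyclic (SuppFam.sectSuppLC h) F := by
  refine H10Coh.isAcyclic_of_class (SuppFam.sectSuppLC h) H10Coh.Flasque (fun G' hG => ?_) F hF
  refine ⟨H10Coh.injSeq G', H10Coh.injSeq_shortExact G', rfl, H10Coh.injSeq_injective G',
    H10Coh.flasque_X₃ (H10Coh.injSeq_shortExact G') hG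
      (@H10Coh.flasque_of_injective _ _ (H10Coh.injSeq_injective G')), ?_⟩
  refine H10Coh.epi_of_locally_surjective _ fun U t x hx => ⟨U, le_rfl, hx, ?_⟩
  obtain ⟨y, hy⟩ := exists_supp_lift h (H10Coh.injSeq_shortExact G') hG U t
  refine ⟨y, hy.trans ?_⟩
  rw [Subsingleton.elim (homOfLE (le_refl U)).op (𝟙 _), CategoryTheory.Functor.map_id]
  rfl

/-- The local cohomology sheaves are those of the modules. -/
theorem exists_module (F : Y.Modules) [HasInjectiveResolutions Y.Modules] (q : ℕ) :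
    Nonempty (Coh.toAb (((T V (V.ι ⁻¹ᵁ W)).rightDerived q).obj F) ≅
      (SuppFam.HZshLC (X := Y.carrier) h q).obj (Coh.toAb F)) := by
  rcases q with _ | n
  · exact ⟨(H10Coh.shF Y).mapIso ((T V (V.ι ⁻¹ᵁ W)).rightDerivedZeroIsoSelf.app F) ≪≫
      (cmpIso h).app F ≪≫ ((SuppFam.sectSuppLC h).rightDerivedZeroIsoSelf.app _).symm⟩
  · obtain ⟨eM⟩ := H10Coh.nonempty_rightDerived_of_chain (T V (V.ι ⁻¹ᵁ W)) n (H10Coh.mZ F) (H10Coh.mI F)
      (H10Coh.mi F) (H10Coh.mp F) (H10Coh.mi_mp F) (H10Coh.shortExact_mZ F) fun k =>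
        haveI := H10Coh.injective_mI F k
        H16Derived.AcyclicLES.isAcyclic_of_injective _ _
    let R := H10Coh.mRes F
    obtain ⟨eA⟩ := H10Coh.nonempty_rightDerived_of_chain (SuppFam.sectSuppLC h) n R.Z R.I R.i R.p R.w R.se
      fun k => isAcyclic_sectSuppLC h (R.fl k)
    exact ⟨(H10Coh.shF Y).mapIso eM ≪≫ PreservesCokernel.iso (H10Coh.shF Y) _ ≪≫
      cokernel.mapIso _ _ ((cmpIso h).app _) ((cmpIso h).app _)
        ((cmpIso h).hom.naturality (H10Coh.mp F n)) ≪≫ eA.symm⟩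

end Derived

end Groth.Agent.LeadLocCohLC
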