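import Groth.Agent.H15Site.LocCohQCoh
import Groth.Agent.H15Site.RDSeq
import Groth.Agent.H10Inj.SheafExt.GammaZ
import Groth.Agent.H10Coh.QCohExt

/-!
# Quasi-coherence of sections with support in a locally closed subset, derived

`T V U = (restriction to V) ⋙ Γ_{V ∖ U} ⋙ (direct image from V)` on modules.
-/

set_option autoImplicit false
set_option linter.style.haveILetI false
set_option linter.unusedSectionVars false
set_option backward.isDefEq.respectTransparency false

noncomputable section

universe u

open CategoryTheory CategoryTheory.Limits AlgebraicGeometry Opposite TopologicalSpace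

namespace Groth.Agent.LeadLocCohLC

open Groth.Agent.H10Inj.SheafExt Groth.Agent.H15Site

attribute [local instance] H10Coh.enoughInjMod

variable {Y : Scheme.{u}} (V : Y.Opens) (U : V.toScheme.Opens)

/-- Sections with support in `V ∖ U`, as a module on `Y`. -/
abbrev T : Y.Modules ⥤ Y.Modules :=
  Scheme.Modules.restrictFunctor V.ι ⋙ DCoh.gammaZ U.ι ⋙ Scheme.Modules.pushforward V.ι

/-- The direct image of the restriction. -/
abbrev HV : Y.Modules ⥤ Y.Modules :=
  Scheme.Modules.restrictFunctor V.ι ⋙ Scheme.Modules.pushforward V.ι

/-- The direct image of the restriction to the smaller open. -/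
abbrev PU : Y.Modules ⥤ Y.Modules :=
  Scheme.Modules.restrictFunctor V.ι ⋙ Scheme.Modules.restrictFunctor U.ι ⋙
    Scheme.Modules.pushforward U.ι ⋙ Scheme.Modules.pushforward V.ι

instance : PreservesFiniteLimits (Scheme.Modules.pushforward V.ι) :=
  have : (Scheme.Modules.pushforward V.ι).IsRightAdjoint :=
    (Scheme.Modules.restrictAdjunction V.ι).isRightAdjoint
  inferInstance

instance : PreservesFiniteLimits (T V U) := inferInstance

/-- The inclusion. -/
def incl : T V U ⟶ HV V where
  app M := (Scheme.Modules.pushforward V.ι).map (gι U ((Scheme.Modules.restrictFunctor V.ι).obj M))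
  naturality {M N} f :=
    ((Scheme.Modules.pushforward V.ι).map_comp _ _).symm.trans
      ((congrArg (Scheme.Modules.pushforward V.ι).map (gι_natural U _)).trans
        ((Scheme.Modules.pushforward V.ι).map_comp _ _))

/-- The restriction. -/
def rest : HV V ⟶ PU V U where
  app M := (Scheme.Modules.pushforward V.ι).map
    ((Scheme.Modules.restrictAdjunction U.ι).unit.app ((Scheme.Modules.restrictFunctor V.ι).obj M))
  naturality {M N} f :=
    ((Scheme.Modules.pushforward V.ι).map_comp _ _).symm.trans
      ((congrArg (Scheme.Modules.pushforward V.ι).map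
        ((Scheme.Modules.restrictAdjunction U.ι).unit.naturality _)).trans
        ((Scheme.Modules.pushforward V.ι).map_comp _ _))

theorem incl_rest : incl V U ≫ rest V U = 0 := by
  refine NatTrans.ext (funext fun M => ?_)
  exact ((Scheme.Modules.pushforward V.ι).map_comp _ _).symm.trans
    ((congrArg (Scheme.Modules.pushforward V.ι).map (kernel.condition _)).trans
      ((Scheme.Modules.pushforward V.ι).map_zero _ _))

theorem shortExact_app (I : Y.Modules) [Injective I] :
    (ShortComplex.mk ((incl V U).app I) ((rest V U).app I)
      (by rw [← NatTrans.comp_app, incl_rest]; rfl)).ShortExact := by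
  let J := (Scheme.Modules.restrictFunctor V.ι).obj I
  haveI : Injective J := Functor.injective_obj_of_injective (F := Scheme.Modules.restrictFunctor V.ι) ‹_›
  let η := (Scheme.Modules.restrictAdjunction U.ι).unit.app J
  have hex : (ShortComplex.mk (kernel.ι η) η (kernel.condition η)).Exact :=
    ShortComplex.exact_of_f_is_kernel _ (kernelIsKernel η)
  have hpf : PreservesFiniteLimits (Scheme.Modules.pushforward V.ι) := inferInstance
  have ht := (Functor.preservesFiniteLimits_tfae (Scheme.Modules.pushforward V.ι)).out 3 1 rfl rfl
  have hk := ht.1 hpf (ShortComplex.mk (kernel.ι η) η (kernel.condition η)) ⟨hex, inferInstance⟩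
  refine ShortComplex.ShortExact.mk' hk.1 hk.2 ?_
  exact LocCohQCoh.epi_of_surjective_app _ fun W =>
    H10Coh.flasque_sh_of_injective J (U.ι.image_preimage_le (V.ι ⁻¹ᵁ W))

variable [QuasiCompact V.ι] [QuasiCompact U.ι] [HasInjectiveResolutions Y.Modules]

theorem isQCoh_rightDerived_HV (M : Y.Modules) [M.IsQuasicoherent] (q : ℕ) :
    (((HV V).rightDerived q).obj M).IsQuasicoherent := by
  haveI : ((Scheme.Modules.restrictFunctor V.ι).obj M).IsQuasicoherent :=
    Scheme.Modules.isQuasicoherent_restrictFunctor V.ι M
  haveI h := H10Coh.isQuasicoherent_rpush V.ι ((Scheme.Modules.restrictFunctor V.ι).obj M) q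
  exact @H10Coh.isQuasicoherent_of_iso _ _ _ ((RDSeq.precompIso (Scheme.Modules.restrictFunctor V.ι)
    (Scheme.Modules.pushforward V.ι)
    (fun I hI => Functor.injective_obj_of_injective (F := Scheme.Modules.restrictFunctor V.ι) hI) q).symm.app M) h

theorem isQCoh_rightDerived_PU (M : Y.Modules) [M.IsQuasicoherent] (q : ℕ) :
    (((PU V U).rightDerived q).obj M).IsQuasicoherent := by
  let R := Scheme.Modules.restrictFunctor V.ι ⋙ Scheme.Modules.restrictFunctor U.ι
  haveI : R.Additive := inferInstance
  haveI : PreservesFiniteLimits R := inferInstance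
  haveI : PreservesFiniteColimits R := inferInstance
  let G := Scheme.Modules.pushforward U.ι ⋙ Scheme.Modules.pushforward V.ι
  haveI : G.Additive := inferInstance
  haveI : ((Scheme.Modules.restrictFunctor V.ι).obj M).IsQuasicoherent :=
    Scheme.Modules.isQuasicoherent_restrictFunctor V.ι M
  haveI : (R.obj M).IsQuasicoherent :=
    Scheme.Modules.isQuasicoherent_restrictFunctor U.ι ((Scheme.Modules.restrictFunctor V.ι).obj M)
  haveI := H10Coh.isQuasicoherent_rpush (U.ι ≫ V.ι) (R.obj M) q
  let α := (Scheme.Modules.pushforwardComp U.ι V.ι)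
  have : ((G.rightDerived q).obj (R.obj M)).IsQuasicoherent := by
    let R' := injectiveResolution (R.obj M)
    exact H10Coh.isQuasicoherent_of_iso (R'.isoRightDerivedObj (Scheme.Modules.pushforward (U.ι ≫ V.ι)) q ≪≫
      (HomologicalComplex.homologyFunctor _ _ q).mapIso
        ((NatIso.mapHomologicalComplex α.symm _).app R'.cocomplex) ≪≫ (R'.isoRightDerivedObj G q).symm)
  exact @H10Coh.isQuasicoherent_of_iso _ _ _ ((RDSeq.precompIso R G (fun I hI =>
    Functor.injective_obj_of_injective (F := Scheme.Modules.restrictFunctor U.ι)
      (Functor.injective_obj_of_injective (F := Scheme.Modules.restrictFunctor V.ι) hI)) q).symm.app M) this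

theorem isQCoh_rightDerived_T (M : Y.Modules) (hM : Coh.IsQCoh M) (q : ℕ) :
    Coh.IsQCoh (((T V U).rightDerived q).obj M) := by
  haveI : M.IsQuasicoherent := hM
  let R := injectiveResolution M
  have hS := RDSeq.shortExact_sc (incl V U) (rest V U) (incl_rest V U) (fun I _ => shortExact_app V U I) R
  let S := RDSeq.sc (incl V U) (rest V U) (incl_rest V U) R
  have h₂ : ∀ p, (S.X₂.homology p).IsQuasicoherent := fun p =>
    haveI := isQCoh_rightDerived_HV V M p
    H10Coh.isQuasicoherent_of_iso (R.isoRightDerivedObj (HV V) p)
  have h₃ : ∀ p, (S.X₃.homology p).IsQuasicoherent := fun p =>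
    haveI := isQCoh_rightDerived_PU V U M p
    H10Coh.isQuasicoherent_of_iso (R.isoRightDerivedObj (PU V U) p)
  have : (S.X₁.homology q).IsQuasicoherent := by
    haveI := h₂ q
    haveI := h₃ q
    let f := HomologicalComplex.homologyMap S.f q
    haveI hK : (kernel (HomologicalComplex.homologyMap S.g q)).IsQuasicoherent :=
      H10Coh.isQuasicoherent_kernel _
    -- image of `f`
    have hex := hS.homology_exact₂ q
    haveI : (Abelian.image f).IsQuasicoherent := @H10Coh.isQuasicoherent_of_iso _ _ _
      (show kernel (HomologicalComplex.homologyMap S.g q) ≅ Abelian.image f from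
        (kernelIsKernel (HomologicalComplex.homologyMap S.g q)).conePointUniqueUpToIso hex.isLimitImage) hK
    rcases q with _ | p
    · haveI : Mono f := by
        haveI := hS.mono_f
        haveI : Mono (S.f.f 0) := inferInstance
        haveI : Mono (HomologicalComplex.cyclesMap S.f 0) :=
          mono_of_mono_fac (HomologicalComplex.cyclesMap_i S.f 0)
        have h1 : IsIso (S.X₁.homologyπ 0) :=
          S.X₁.isIso_homologyπ 0 0 (by simp) (S.X₁.shape 0 0 (by simp))
        have h2 : IsIso (S.X₂.homologyπ 0) :=
          S.X₂.isIso_homologyπ 0 0 (by simp) (S.X₂.shape 0 0 (by simp))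
        show Mono (HomologicalComplex.homologyMap S.f 0)
        rw [← IsIso.inv_hom_id_assoc (S.X₁.homologyπ 0) (HomologicalComplex.homologyMap S.f 0),
          HomologicalComplex.homologyπ_naturality]
        infer_instance
      haveI : Mono (Abelian.factorThruImage f) := mono_of_mono_fac (Abelian.image.fac f)
      haveI : IsIso (Abelian.factorThruImage f) := isIso_of_mono_of_epi _
      exact H10Coh.isQuasicoherent_of_iso (asIso (Abelian.factorThruImage f)).symm
    · haveI := h₂ p
      haveI := h₃ p
      have hij : (ComplexShape.up ℕ).Rel p (p + 1) := by simp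
      let d := hS.δ p (p + 1) hij
      haveI : (Abelian.coimage d).IsQuasicoherent := by
        have e := hS.homology_exact₃ p (p + 1) hij
        have hC := H10Coh.isQuasicoherent_cokernel (HomologicalComplex.homologyMap S.g p)
        exact @H10Coh.isQuasicoherent_of_iso _ _ _
          (show cokernel (HomologicalComplex.homologyMap S.g p) ≅ Abelian.coimage d from
            (cokernelIsCokernel (HomologicalComplex.homologyMap S.g p)).coconePointUniqueUpToIso e.isColimitCoimage) hC
      have e := hS.homology_exact₁ p (p + 1) hij
      haveI : (kernel f).IsQuasicoherent := H10Coh.isQuasicoherent_of_iso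
        ((Abelian.coimageIsoImage d) ≪≫ (show Abelian.image d ≅ kernel f from
          ((kernelIsKernel f).conePointUniqueUpToIso e.isLimitImage).symm))
      let S' := ShortComplex.mk (kernel.ι f) (Abelian.factorThruImage f) (by
        rw [← cancel_mono (Abelian.image.ι f), Category.assoc, Abelian.image.fac, kernel.condition, zero_comp])
      have hS' : S'.ShortExact := ShortComplex.ShortExact.mk' (ShortComplex.exact_of_f_is_kernel _
        (KernelFork.IsLimit.ofι' _ _ fun {A} k hk => ⟨kernel.lift f k (by
          rw [← Abelian.image.fac f, ← Category.assoc]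
          exact (congrArg (· ≫ _) hk).trans zero_comp), kernel.lift_ι _ _ _⟩)) inferInstance inferInstance
      haveI : S'.X₁.IsQuasicoherent := ‹(kernel f).IsQuasicoherent›
      haveI : S'.X₃.IsQuasicoherent := ‹(Abelian.image f).IsQuasicoherent›
      exact H10Coh.isQuasicoherent_X₂ hS'
  exact @H10Coh.isQuasicoherent_of_iso _ _ _ (R.isoRightDerivedObj (T V U) q).symm this

end Groth.Agent.LeadLocCohLC
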